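import Mathlib.RingTheory.AdjoinRoot
import Mathlib.RingTheory.Flat.FaithfullyFlat.Algebra
import Mathlib.RingTheory.Flat.Basic
import Mathlib.RingTheory.Finiteness.ModuleFinitePresentation
import Mathlib.LinearAlgebra.TensorProduct.Tower
import Mathlib.RingTheory.TensorProduct.Finite

/-!
# Finite algebras inside algebras covered by sections
-/

universe u

open Polynomial TensorProduct

namespace GrothLib.SplitCover9

/-- The algebra classifying `r`-tuples of roots of a monic polynomial. -/
theorem exists_roots_algebra {A : Type u} [CommRing A] {p : A[X]} (hp : p.Monic) : ∀ r : ℕ,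
    ∃ (C : Type u) (_ : CommRing C) (_ : Algebra A C) (x : Fin r → C),
      Module.Free A C ∧ Module.Finite A C ∧ (∀ i, aeval (x i) p = 0) ∧
      (∀ (D : Type u) [CommRing D] [Algebra A D] (d : Fin r → D), (∀ i, aeval (d i) p = 0) →
        ∃ φ : C →ₐ[A] D, ∀ i, φ (x i) = d i) ∧
      ∀ (D : Type u) [CommRing D] [Algebra A D] (φ φ' : C →ₐ[A] D), (∀ i, φ (x i) = φ' (x i)) → φ = φ' := by
  intro r
  induction r with
  | zero =>
    exact ⟨A, inferInstance, inferInstance, Fin.elim0, inferInstance, inferInstance, fun i => i.elim0,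
      fun D _ _ _ _ => ⟨Algebra.ofId A D, fun i => i.elim0⟩, fun D _ _ φ φ' _ => Subsingleton.elim _ _⟩
  | succ r ih =>
    obtain ⟨C, _, _, x, hfree, hfin, hx, hlift, hext⟩ := ih
    let q := p.map (algebraMap A C)
    have hq : q.Monic := hp.map _
    haveI := hq.free_adjoinRoot
    haveI := hq.finite_adjoinRoot
    refine ⟨AdjoinRoot q, inferInstance, inferInstance,
      Fin.snoc (fun i => algebraMap C (AdjoinRoot q) (x i)) (AdjoinRoot.root q),
      Module.Free.trans (S := C), Module.Finite.trans C _, fun i => ?_, fun D _ _ d hd => ?_, fun D _ _ φ φ' h => ?_⟩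
    · refine Fin.lastCases ?_ (fun i => ?_) i
      · rw [Fin.snoc_last, ← Polynomial.aeval_map_algebraMap C, AdjoinRoot.aeval_eq, AdjoinRoot.mk_self]
      · rw [Fin.snoc_castSucc, Polynomial.aeval_algebraMap_apply, hx, map_zero]
    · obtain ⟨φ₀, hφ₀⟩ := hlift D (fun i => d i.castSucc) fun i => hd _
      refine ⟨AdjoinRoot.liftAlgHom q φ₀ (d (Fin.last r)) ?_, fun i => ?_⟩
      · rw [Polynomial.eval₂_map]
        have : (φ₀ : C →+* D).comp (algebraMap A C) = algebraMap A D := φ₀.comp_algebraMap
        erw [this]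
        exact hd _
      · refine Fin.lastCases ?_ (fun i => ?_) i
        · rw [Fin.snoc_last, AdjoinRoot.liftAlgHom_root]
        · rw [Fin.snoc_castSucc]
          simpa [AdjoinRoot.liftAlgHom, AdjoinRoot.algebraMap_eq] using hφ₀ i
    · have h0 : φ.comp (IsScalarTower.toAlgHom A C _) = φ'.comp (IsScalarTower.toAlgHom A C _) :=
        hext D _ _ fun i => by simpa using h i.castSucc
      have h1 : φ.toRingHom = φ'.toRingHom := Ideal.Quotient.ringHom_ext <|
        Polynomial.ringHom_ext (fun c => AlgHom.congr_fun h0 c) (by have h2 := h (Fin.last r); rw [Fin.snoc_last] at h2; exact h2)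
      exact AlgHom.ext fun z => RingHom.congr_fun h1 z

/-- A finite algebra embeds, after a finite free faithfully flat extension, into a finite free algebra
covered by sections. -/
theorem exists_cover (A B : Type u) [CommRing A] [CommRing B] [Algebra A B] [Module.Finite A B] :
    ∃ (A' : Type u) (_ : CommRing A') (_ : Algebra A A'), Module.Free A A' ∧ Module.Finite A A' ∧
      Module.FaithfullyFlat A A' ∧ ∃ (C : Type u) (_ : CommRing C) (_ : Algebra A' C),
        Module.Free A' C ∧ Module.Finite A' C ∧ (∃ ψ : C →ₐ[A'] A' ⊗[A] B, Function.Surjective ψ) ∧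
        ∃ (m : ℕ) (σ : Fin m → C →ₐ[A'] A'), ∀ P : Ideal C, P.IsPrime → ∃ j, RingHom.ker (σ j) ≤ P := by
  classical
  obtain ⟨S, hS⟩ := (‹Module.Finite A B›).fg_top
  have hint : ∀ b : B, IsIntegral A b := Algebra.IsIntegral.isIntegral
  choose P hPm hP using hint
  let p : A[X] := ∏ b ∈ S, P b
  have hp : p.Monic := monic_prod_of_monic _ _ fun b _ => hPm b
  have hpS : ∀ b ∈ S, aeval b p = 0 := fun b hb => by
    rw [map_prod]
    exact Finset.prod_eq_zero hb (hP b)
  obtain ⟨A', _, _, hfree, hfin, hff, hsplit⟩ : ∃ (A' : Type u) (_ : CommRing A') (_ : Algebra A A'),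
      Module.Free A A' ∧ Module.Finite A A' ∧ Module.FaithfullyFlat A A' ∧ (p.map (algebraMap A A')).Splits := by
    rcases subsingleton_or_nontrivial A with hA | hA
    · exact ⟨A, inferInstance, inferInstance, inferInstance, inferInstance, inferInstance, by
        rw [Subsingleton.elim (p.map (algebraMap A A)) 0]; exact Polynomial.Splits.zero⟩
    · obtain ⟨A', _, _, _, _, _, h⟩ := hp.exists_splits_map
      exact ⟨A', inferInstance, inferInstance, inferInstance, inferInstance, inferInstance, h⟩
  refine ⟨A', inferInstance, inferInstance, hfree, hfin, hff, ?_⟩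
  obtain ⟨M, hM⟩ := splits_iff_exists_multiset.1 hsplit
  rw [(hp.map (algebraMap A A')).leadingCoeff, map_one, one_mul] at hM
  obtain ⟨C, _, _, x, hCfree, hCfin, hx, hlift, hext⟩ := exists_roots_algebra (hp.map (algebraMap A A')) S.card
  let g : Fin S.card → B := fun i => (S.equivFin.symm i).1
  obtain ⟨ψ, hψ⟩ := hlift (A' ⊗[A] B) (fun i => 1 ⊗ₜ g i) fun i => by
    rw [Polynomial.aeval_map_algebraMap]
    show aeval (Algebra.TensorProduct.includeRight (g i)) p = 0
    rw [Polynomial.aeval_algHom_apply, hpS _ (S.equivFin.symm i).2, map_zero]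
  refine ⟨C, inferInstance, inferInstance, hCfree, hCfin, ⟨ψ, fun z => ?_⟩, ?_⟩
  · induction z with
    | zero => exact ⟨0, map_zero ψ⟩
    | tmul a b =>
      have hb : b ∈ Submodule.span A (S : Set B) := hS.symm ▸ Submodule.mem_top
      have : ∃ c, ψ c = (1 : A') ⊗ₜ[A] b := by
        induction hb using Submodule.span_induction with
        | mem y hy => exact ⟨x (S.equivFin ⟨y, hy⟩), by rw [hψ]; simp [g]⟩
        | zero => exact ⟨0, by rw [map_zero, TensorProduct.tmul_zero]⟩
        | add y z _ _ hy hz =>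
          obtain ⟨c, hc⟩ := hy
          obtain ⟨c', hc'⟩ := hz
          exact ⟨c + c', by rw [map_add, hc, hc', TensorProduct.tmul_add]⟩
        | smul r y _ hy =>
          obtain ⟨c, hc⟩ := hy
          exact ⟨algebraMap A A' r • c, by rw [map_smul, hc, algebraMap_smul, TensorProduct.tmul_smul]⟩
      obtain ⟨c, hc⟩ := this
      exact ⟨a • c, by rw [map_smul, hc, TensorProduct.smul_tmul', smul_eq_mul, mul_one]⟩
    | add y z hy hz =>
      obtain ⟨c, hc⟩ := hy
      obtain ⟨c', hc'⟩ := hz
      exact ⟨c + c', by rw [map_add, hc, hc']⟩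
  · let T := Fin S.card → {a // a ∈ M.toFinset}
    have hroot : ∀ a ∈ M.toFinset, aeval a (p.map (algebraMap A A')) = 0 := fun a ha => by
      rw [hM, map_multiset_prod, Multiset.map_map]
      refine Multiset.prod_eq_zero (Multiset.mem_map.2 ⟨a, Multiset.mem_toFinset.1 ha, ?_⟩)
      simp
    choose σ hσ using fun t : T => hlift A' (fun i => (t i).1) fun i => hroot _ (t i).2
    refine ⟨Fintype.card T, fun j => σ ((Fintype.equivFin T).symm j), fun Q hQ => ?_⟩
    have hmem : ∀ i, ∃ a ∈ M.toFinset, x i - algebraMap A' C a ∈ Q := fun i => by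
      have h := hx i
      rw [hM, map_multiset_prod, Multiset.map_map] at h
      obtain ⟨z, hz, hzQ⟩ := (hQ.multiset_prod_mem_iff_exists_mem _).1 (h ▸ Q.zero_mem)
      obtain ⟨a, ha, rfl⟩ := Multiset.mem_map.1 hz
      exact ⟨a, Multiset.mem_toFinset.2 ha, by simpa using hzQ⟩
    choose a ha haQ using hmem
    let t : T := fun i => ⟨a i, ha i⟩
    refine ⟨Fintype.equivFin T t, fun c hc => ?_⟩
    simp only [Equiv.symm_apply_apply, RingHom.mem_ker] at hc
    have h2 := hext (C ⧸ Q) (Ideal.Quotient.mkₐ A' Q) ((Algebra.ofId A' (C ⧸ Q)).comp (σ t)) fun i => by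
      rw [AlgHom.comp_apply, hσ, Ideal.Quotient.mkₐ_eq_mk, Algebra.ofId_apply,
        ← Ideal.Quotient.mk_algebraMap, Ideal.Quotient.eq]
      exact haQ i
    rw [← Ideal.Quotient.eq_zero_iff_mem, ← Ideal.Quotient.mkₐ_eq_mk A', h2, AlgHom.comp_apply, hc, map_zero]

end GrothLib.SplitCover9
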